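import Cfsg.Agent.Lib.CosetEnum.Fi22U6.Cover
import Cfsg.Agent.Lib.FischerUnique.Levels

set_option autoImplicit false

/-!
Transport of the class of 3-transpositions of the presented `Fi22` along an isomorphism.
-/

namespace CfsgLib.FischerModel

open CfsgLib.CosetEnum

/-- A braid relation makes two involutions conjugate. -/
theorem isConj_of_braid {G : Type*} [Group G] {a b : G} (ha : a * a = 1) (hb : b * b = 1)
    (h : [a, b, a, b, a, b].prod = 1) : IsConj a b := by
  have ia : a⁻¹ = a := inv_eq_of_mul_eq_one_right ha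
  have ib : b⁻¹ = b := inv_eq_of_mul_eq_one_right hb
  simp only [List.prod_cons, List.prod_nil, mul_one] at h
  refine isConj_iff.mpr ⟨a * b, ?_⟩
  rw [mul_inv_rev, ia, ib]
  have e : (a * b * a * (b * a)) * b = 1 := by rw [← h]; group
  have := eq_inv_of_mul_eq_one_left e
  rw [this, ib]

theorem isConj_a (x : ℕ) (hx : x < 9) : IsConj (Fi22.g 0) (Fi22.g x) := by
  have key : ∀ p q : ℕ, [p, p] ∈ Fi22.ls → [q, q] ∈ Fi22.ls → [p, q, p, q, p, q] ∈ Fi22.ls →
      IsConj (Fi22.g p) (Fi22.g q) := by
    intro p q hp hq h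
    have h1 := (Fi22.lsWords _ hp).2
    have h2 := (Fi22.lsWords _ hq).2
    have h3 := (Fi22.lsWords _ h).2
    simp only [List.map_cons, List.map_nil, List.prod_cons, List.prod_nil, mul_one] at h1 h2
    exact isConj_of_braid h1 h2 (by simpa using h3)
  have e1 := key 0 1 (by decide +kernel) (by decide +kernel) (by decide +kernel)
  have e2 := e1.trans (key 1 2 (by decide +kernel) (by decide +kernel) (by decide +kernel))
  have e3 := e2.trans (key 2 3 (by decide +kernel) (by decide +kernel) (by decide +kernel))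
  have e4 := e3.trans (key 3 4 (by decide +kernel) (by decide +kernel) (by decide +kernel))
  have e5 := e4.trans (key 4 5 (by decide +kernel) (by decide +kernel) (by decide +kernel))
  have e6 := e5.trans (key 5 6 (by decide +kernel) (by decide +kernel) (by decide +kernel))
  have e7 := e3.trans (key 3 7 (by decide +kernel) (by decide +kernel) (by decide +kernel))
  have e8 := e7.trans (key 7 8 (by decide +kernel) (by decide +kernel) (by decide +kernel))
  interval_cases x
  exacts [IsConj.refl _, e1, e2, e3, e4, e5, e6, e7, e8]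

/-- A 3-transposition class is carried to one by an isomorphism. -/
theorem class_map {X : Type*} [Group X] {H : Type*} [Group H] (ψ : X ≃* H) {E : Set X}
    (hE : Cfsg.IsThreeTranspositionClass E) : Cfsg.IsThreeTranspositionClass (ψ '' E) := by
  obtain ⟨⟨hord, hpair⟩, ⟨d, hd, hcl⟩, hgen⟩ := hE
  refine ⟨⟨?_, ?_⟩, ⟨ψ d, ⟨d, hd, rfl⟩, ?_⟩, ?_⟩
  · rintro _ ⟨x, hx, rfl⟩
    rw [← hord x hx]
    exact ψ.orderOf_eq x
  · rintro _ ⟨x, hx, rfl⟩ _ ⟨y, hy, rfl⟩
    rcases hpair x hx y hy with h | h
    · left; rw [← map_mul, ← map_pow, h, map_one]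
    · right; rw [← map_mul, ← map_pow, h, map_one]
  · ext y
    constructor
    · rintro ⟨x, hx, rfl⟩
      rw [hcl] at hx
      exact ψ.toMonoidHom.map_isConj hx
    · intro hy
      refine ⟨ψ.symm y, ?_, ψ.apply_symm_apply y⟩
      rw [hcl]
      have := ψ.symm.toMonoidHom.map_isConj hy
      rwa [MulEquiv.coe_toMonoidHom, MulEquiv.symm_apply_apply] at this
  · rw [show (ψ '' E : Set H) = ψ.toMonoidHom '' E from rfl, ← MonoidHom.map_closure, hgen,
      Subgroup.map_top_of_surjective _ ψ.surjective]

/-- The images of the nine generators lie in every rigid class. -/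
theorem gen_mem {H : Type*} [Group H] [Finite H] {D : Set H} (S : FischerType.Setting D)
    (hR : FischerUnique.Rigid D) (ψ : Cfsg.Spor.Fi22 ≃* H) (x : ℕ) (hx : x < 9) :
    ψ (Fi22.g x) ∈ D := by
  rw [← FischerUnique.eq_of_rigid S hR (class_map ψ Fi22U6.threeClass)]
  exact ⟨Fi22.g x, isConj_a x hx, rfl⟩

end CfsgLib.FischerModel
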