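import Cfsg.Agent.Lib.FischerModel.Fi22Class
import Cfsg.Agent.Lib.CosetEnum.O7.Iso

set_option autoImplicit false

/-!
The `Ω₇(3)` subgroup of `Fi22` is a `D`-subgroup containing a Sylow 3-subgroup.
-/

namespace CfsgLib.FischerModel

open CfsgLib.CosetEnum

theorem index_sub :
    (Level Fi22.g [1, 2, 3, 4, 5, 6, 7, 8]).index = 14080 := by
  haveI : Finite Cfsg.Spor.Fi22 := Fi22.finite
  exact index_eq_of_bounds (by omega) Fi22.UTop.covers Fi22.UBound.bound0
      (by rw [Fi22.card_group])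

theorem card_sub : Nat.card (Level Fi22.g [1, 2, 3, 4, 5, 6, 7, 8]) = 4585351680 := by
  have h := (Level Fi22.g [1, 2, 3, 4, 5, 6, 7, 8]).index_mul_card
  rw [index_sub, Fi22.card_group] at h
  omega

/-- In a group isomorphic to `Fi22`, with a rigid class `D` of 3-transpositions, there is a `D`-subgroup isomorphic to
`Ω₇(3)` containing a Sylow 3-subgroup. -/
theorem omega_seven_subgroup {H : Type*} [Group H] [Finite H] {D : Set H} (S : FischerType.Setting D)
    (hR : FischerUnique.Rigid D) (ψ : Cfsg.Spor.Fi22 ≃* H) :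
    ∃ L : Subgroup H, Cfsg.IsDSubgroup D L ∧
      Nonempty (↥L ≃* Cfsg.POmega (ZMod 3) (Cfsg.quadFormOdd 3 (ZMod 3))) ∧
      ∀ P : Sylow 3 ↥L, ∃ P' : Sylow 3 H, (P : Subgroup ↥L).map L.subtype = (P' : Subgroup H) := by
  haveI : Finite Cfsg.Spor.Fi22 := Fi22.finite
  set K : Subgroup Cfsg.Spor.Fi22 := Level Fi22.g [1, 2, 3, 4, 5, 6, 7, 8] with hK
  refine ⟨K.map ψ.toMonoidHom, ?_, ?_, ?_⟩
  · unfold Cfsg.IsDSubgroup
    refine le_antisymm ((Subgroup.closure_le _).mpr fun d hd => hd.2) ?_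
    rw [hK, Level, MonoidHom.map_closure]
    refine Subgroup.closure_mono ?_
    rintro _ ⟨_, ⟨x, hx, rfl⟩, rfl⟩
    refine ⟨gen_mem S hR ψ x ?_, ?_⟩
    · simp only [List.mem_cons, List.not_mem_nil, or_false] at hx
      omega
    · rw [← MonoidHom.map_closure]
      exact ⟨Fi22.g x, Subgroup.subset_closure ⟨x, hx, rfl⟩, rfl⟩
  · obtain ⟨e⟩ := O7.iso card_sub
    exact ⟨(K.equivMapOfInjective ψ.toMonoidHom ψ.injective).symm.trans e⟩
  · intro P
    haveI : Fact (Nat.Prime 3) := ⟨Nat.prime_three⟩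
    have hLi : ¬ 3 ∣ (K.map ψ.toMonoidHom).index := by
      have e : (K.map ψ.toMonoidHom).index = K.index := Subgroup.index_map_equiv (H := K) ψ
      rw [e, hK, index_sub]
      decide
    refine ⟨(P.isPGroup'.map (K.map ψ.toMonoidHom).subtype).toSylow ?_, rfl⟩
    rw [Subgroup.index_map_of_injective _ (K.map ψ.toMonoidHom).subtype_injective, Subgroup.range_subtype]
    exact fun h => (Nat.prime_three.dvd_mul.mp h).elim P.not_dvd_index hLi

end CfsgLib.FischerModel
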